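import Cfsg.Agent.H9.C11.Ga

/-! The plane half-turn over any finite field of characteristic other than `2` and `11`. -/

set_option autoImplicit false
set_option linter.unusedSimpArgs false
set_option linter.unusedSectionVars false
set_option linter.unusedVariables false

namespace Cfsg.Agent.H9.C11

open Matrix OnePoint Cfsg.Agent.H5.T3 Cfsg.Agent.H5.C5 Cfsg.Agent.H8 Cfsg.Agent.H7 Cfsg.Agent.L.X11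
open scoped MatrixGroups

local notation "pk" => Matrix.ProjGenLinGroup.mk

/-- a finite field of characteristic `p ≠ 2, 11` -/
structure FG (F : Type*) [Field F] (p : ℕ) : Prop where
  prime : p.Prime
  char : CharP F p
  finF : Finite F
  two : (2 : F) ≠ 0
  eleven : (11 : F) ≠ 0

variable {F : Type*} [Field F] {g : F}

theorem plane3' {p : ℕ} (h : FG F p) (p2 : (2 : F) ≠ 0) {S : Subgroup (GL (Fin 2) F)}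
    (hd : ∀ s ∈ S, s.1.det = 1) (hn : ∀ s ∈ S, s.1 ≠ -1) {a b : GL (Fin 2) F} (a3 : a ^ 3 = 1) (b3 : b ^ 3 = 1)
    (aS : a ∈ S) (bS : b ∈ S) : (a.1 * b.1 - b.1 * a.1).det = 0 := by
  haveI := h.char
  haveI := h.finF
  haveI : Fact p.Prime := ⟨h.prime⟩
  obtain ⟨X, hX⟩ : ∃ X, X = S.map pk := ⟨_, rfl⟩
  have aX : pk a ∈ X := hX ▸ ⟨a, aS, rfl⟩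
  have bX : pk b ∈ X := hX ▸ ⟨b, bS, rfl⟩
  have odd : ∀ y ∈ X, y * y = 1 → y = 1 := by
    rw [hX]
    rintro _ ⟨s, hs, rfl⟩ e
    rw [← map_mul, mk_eq_one_iff] at e
    have d := hd s hs
    have n := hn _ (S.mul_mem hs hs)
    simp only [Units.val_mul, mul_apply, Fin.sum_univ_two, det_fin_two] at e d n
    obtain ⟨e1, e2, e3⟩ := e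
    rw [mk_eq_one_iff]
    by_cases t : s.1 0 0 + s.1 1 1 = 0
    · refine absurd ?_ n
      ext i j
      fin_cases i <;> fin_cases j <;> simp [mul_apply, Fin.sum_univ_two]
      · linear_combination s.1 0 0 * t - d
      · linear_combination s.1 0 1 * t
      · linear_combination s.1 1 0 * t
      · linear_combination s.1 1 1 * t - d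
    · exact ⟨mul_left_cancel₀ t (by linear_combination e1), mul_left_cancel₀ t (by linear_combination e2),
        mul_left_cancel₀ t (by linear_combination e3)⟩
  have pair : ∀ {K : Type _} [Field K] [Algebra F K] (z y : OnePoint K),
      X ≤ pairStab F z y → (a.1 * b.1 - b.1 * a.1).det = 0 := by
    intro K _ _ z y hH
    have key : ∀ c : GL (Fin 2) F, c ^ 3 = 1 → pk c ∈ X → pk c • z = z := fun c c3 cX => by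
      have h1 : pk c * pk c ∈ MulAction.stabilizer PGL(2, F) z := by
        rw [MulAction.mem_stabilizer_iff, mul_smul]
        rcases hH cX with ⟨e1, e2⟩ | ⟨e1, e2⟩
        · rw [e1, e1]
        · rw [e1, e2]
      have h2 := pow_mem h1 2
      rwa [← sq, ← pow_mul, ← map_pow, show 2 * 2 = 3 + 1 from rfl, pow_succ, c3, one_mul] at h2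
    exact fix_det z (key a a3 aX) (key b b3 bX)
  rcases H3.dickson2 p X with ⟨z, hx⟩ | ⟨z, y, -, hx⟩ | ⟨t, a', b', -, hx⟩ | hx | ⟨k, g, -, hx⟩
  · exact fix_det z (hx aX) (hx bX)
  · exact pair z y hx
  · exact pair _ _ hx
  · have k1 : 2 ∣ Nat.card X := by rcases hx.2.2 with k | k | k <;> rw [k.1] <;> norm_num
    have k0 : Nat.card X ≠ 0 := by rcases hx.2.2 with k | k | k <;> rw [k.1] <;> norm_num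
    haveI := Nat.finite_of_card_ne_zero k0
    obtain ⟨y, hy⟩ := exists_prime_orderOf_dvd_card' 2 k1
    have k2 := odd y.1 y.2 (by
      have := pow_orderOf_eq_one y
      rw [hy, sq] at this
      exact congrArg Subtype.val this)
    rw [show y = 1 from Subtype.ext k2, orderOf_one] at hy
    omega
  · let J : GL (Fin 2) F := mat 0 1 (-1) 0 (by simp)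
    have J1 : pk J ∈ PS k := mem_PS.2 ⟨J, rfl, fun i j => by
      fin_cases i <;> fin_cases j <;> simp [J, mat], 1, one_mem _, by simp [J, mat]⟩
    have J2 : g * pk J * g⁻¹ ∈ X := by
      rcases hx with hx | hx <;> rw [hx, mem_cj] <;> simp only [mul_assoc, inv_mul_cancel_left,
        inv_mul_cancel, mul_one]
      exacts [J1, PS_le_PG _ J1]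
    have J3 : pk J * pk J = 1 := by
      rw [← map_mul, mk_eq_one_iff]; simp [J, mat, mul_apply, Fin.sum_univ_two]
    have J4 := odd _ J2 (by rw [conj_mul, J3]; simp)
    rw [conj_eq_one_iff, mk_eq_one_iff] at J4
    simpa [J, mat] using J4.1

theorem cjq' {p : ℕ} (h : FG F p) {G : Subgroup (GL (Fin 3) F)} (hx : InM G (D3 1 !![0, -1; 1, -1]))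
    (hR : ¬ InM G (D3 1 (-1))) {μ l a b c d : F} (hc : InM G (μ • D3 l !![a, b; c, d])) :
    (-(a ^ 2 + b ^ 2 + c ^ 2 + d ^ 2) - a * b - c * d + a * c + b * d - a * d + 2 * b * c) *
      (-(a ^ 2 + b ^ 2 + c ^ 2 + d ^ 2) - a * b - c * d + a * c + b * d + 2 * a * d - b * c) = 0 := by
  have n0 : μ ^ 3 * (l * (a * d - b * c)) ≠ 0 := by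
    obtain ⟨C, -, e⟩ := hc
    have := (Matrix.isUnit_iff_isUnit_det _).1 C.isUnit
    rw [e, det_smul] at this
    convert this.ne_zero using 2
    · simp
    · simp [D3, det_fin_three]; ring
  have n1 : μ ≠ 0 := fun e => n0 (by simp [e])
  have n2 : l ≠ 0 := fun e => n0 (by simp [e])
  have n3 : a * d - b * c ≠ 0 := fun e => n0 (by simp [e])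
  obtain ⟨i, hi⟩ : ∃ i, (a * d - b * c) * i = 1 := ⟨_, mul_inv_cancel₀ n3⟩
  have n4 : i ≠ 0 := fun e => by simp [e] at hi
  have k1 : !![a, b; c, d] * !![i * d, -(i * b); -(i * c), i * a] = 1 := by
    ext r s; fin_cases r <;> fin_cases s <;> simp [mul_apply, Fin.sum_univ_two] <;>
      first | ring1 | linear_combination hi
  let c0 : GL (Fin 2) F := ⟨_, _, k1, mul_eq_one_comm.1 k1⟩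
  have k2 : !![(0 : F), -1; 1, -1] * !![-1, 1; -1, 0] = 1 := by
    ext r s; fin_cases r <;> fin_cases s <;> simp [mul_apply, Fin.sum_univ_two]
  let y : GL (Fin 2) F := ⟨_, _, k2, mul_eq_one_comm.1 k2⟩
  have y3 : y ^ 3 = 1 := Units.ext (by
    ext r s; fin_cases r <;> fin_cases s <;> simp [y, pow_succ, mul_apply, Fin.sum_univ_two])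
  have yd : GeneralLinearGroup.det y = 1 := Units.ext (by simp [y, det_fin_two])
  have hb : InM G (D3 1 (c0 * y * c0⁻¹).1) := by
    refine ((hc.mul hx).mul (hc.inv (Y := μ⁻¹ • D3 l⁻¹ c0⁻¹.1) ?_)).congr ?_
    · rw [smul_mul_smul_comm, D3_mul, mul_inv_cancel₀ n1, mul_inv_cancel₀ n2, one_smul]
      exact (congrArg (D3 1) k1).trans D3_one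
    · rw [smul_mul_assoc, smul_mul_smul_comm, D3_mul, D3_mul, mul_inv_cancel₀ n1, mul_one,
        mul_inv_cancel₀ n2, one_smul]
      rfl
  have k := plane3' h h.two (S := G.comap (Units.map E2) ⊓ GeneralLinearGroup.det.ker)
    (fun s hs => congrArg Units.val (MonoidHom.mem_ker.1 hs.2))
    (fun s hs e => hR ((mem_lift.1 hs.1).congr (congrArg (D3 1) e))) y3 (b := c0 * y * c0⁻¹)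
    (by rw [conj_pow, y3]; simp) ⟨mem_lift.2 hx, yd⟩
    ⟨mem_lift.2 hb, MonoidHom.mem_ker.2 (by rw [map_mul, map_mul, yd, map_inv]; simp)⟩
  have e : (c0 * y * c0⁻¹).1 = !![a, b; c, d] * !![0, -1; 1, -1] * !![i * d, -(i * b); -(i * c), i * a] := rfl
  rw [e] at k
  simp [y, det_fin_two, mul_apply, Fin.sum_univ_two] at k
  refine mul_left_cancel₀ (pow_ne_zero 2 n4) ?_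
  first | linear_combination k | linear_combination -k

theorem core' {p : ℕ} (h : FG F p) (h3 : (3 : F) ≠ 0) (h31 : (31 : F) ≠ 0) (h13 : (13 : F) ≠ 0) (h73 : (73 : F) ≠ 0)
    (hg : g * g = -11)
    {G : Subgroup (GL (Fin 3) F)} {e : F} (he : 64 * e = 1) (hk : InM G (e • Kz g)) (hw : InM G (e • Wz g))
    (hx : InM G (D3 1 !![0, -1; 1, -1])) : InM G (D3 1 (-1)) := by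
  by_contra hR
  haveI := h.finF
  have h2 := h.two
  have h11 := h.eleven
  have e0 : e ≠ 0 := fun k => by simp [k] at he
  obtain ⟨i, hi⟩ : ∃ i : F, 26 * i = 1 :=
    ⟨_, mul_inv_cancel₀ (by rw [show (26 : F) = 2 * 13 by norm_num]; exact mul_ne_zero h2 h13)⟩
  have h1 : i • Pz g * i • Pz g = i • Pz g := by
    rw [smul_mul_smul_comm, PP hg]; match_scalars; linear_combination i * hi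
  have h2' : i • Pz g * e • Wz g = i • Pz g := by
    rw [smul_mul_smul_comm, PW hg]; match_scalars; linear_combination i * he
  have h3' : e • Wz g * i • Pz g = i • Pz g := by
    rw [smul_mul_smul_comm, WP hg]; match_scalars; linear_combination i * he
  have h4 : e • Wz g * e • Wz g = (-80 * e) • e • Wz g - 1 + (2 - -80 * e) • i • Pz g := by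
    rw [smul_mul_smul_comm, WW hg]; match_scalars
    · ring
    · linear_combination (-(64 * e + 1)) * he
    · linear_combination (8 * e + 2 * i) * he - 8 * e * hi
  have inj : ∀ {A B A' B' : F}, MM (e • Wz g) (i • Pz g) A B = MM (e • Wz g) (i • Pz g) A' B' →
      A = A' ∧ B = B' := by
    intro A B A' B' k
    have k1 := congrFun (congrFun k 1) 0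
    have k2 := congrFun (congrFun k 0) 0
    simp only [MM, Wz, Pz, Matrix.add_apply, Matrix.smul_apply, smul_eq_mul, one_apply_eq, of_apply, cons_val',
      cons_val_zero, cons_val_one, one_apply_ne (show (1 : Fin 3) ≠ 0 by decide), cons_val_fin_one] at k1 k2
    have k3 : B = B' := mul_left_cancel₀ h3 (by linear_combination (-4) * k1 - 3 * (B - B') * he)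
    exact ⟨by rw [k3] at k2; linear_combination k2, k3⟩
  obtain ⟨w, wG, ew⟩ := hw
  rcases half w with ⟨m, k1, k2⟩ | ⟨m, k1⟩ <;> obtain ⟨A, B, n1, n2⟩ := MM_pow h1 h2' h3' h4 m <;>
    have n3 := congrArg Units.val k1 <;> rw [Units.val_mul, Units.val_pow_eq_pow_val, ew, n2, MM_sq h1 h2' h3' h4] at n3 <;>
    have n4 := ((InM.of wG).pow m).congr ((congrArg (· ^ m) ew).trans n2)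
  · obtain ⟨a1, a2⟩ := inj (A' := 1) (B' := 0) (n3.trans (by simp [MM]))
    have b0 : B = 0 := by
      by_contra b0
      have a3 : 2 * A - 80 * e * B = 0 := mul_left_cancel₀ b0 (by linear_combination a2)
      have a4 : -80 * e * A + 2 * B = 0 := mul_left_cancel₀ b0 (by linear_combination n1 - a1)
      refine mul_ne_zero (mul_ne_zero h3 h13) b0 ?_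
      linear_combination 32 * a4 + 1280 * e * a3 + 25 * B * (64 * e + 1) * he
    subst b0
    have a3 : A = -1 := by
      refine (mul_self_eq_one_iff.1 (by linear_combination a1)).resolve_left fun a3 => k2 (Units.ext ?_)
      rw [Units.val_pow_eq_pow_val, ew, n2, a3]; simp [MM]
    subst a3
    have k := cjq' h hx hR (n4.congr (show _ = (2 * i) • _ by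
      rw [← cK (g := g), MM]; match_scalars <;> first | ring1 | linear_combination hi))
    rcases mul_eq_zero.1 k with k | k
    · exact h11 (by linear_combination k + hg)
    · exact mul_ne_zero (pow_ne_zero 4 h2) h31 (by linear_combination -k - 31 * hg)
  · obtain ⟨a1, a2⟩ := inj (A' := 0) (B' := 1) (n3.trans (by simp [MM]))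
    have b0 : B ≠ 0 := fun b0 => by simp [b0] at a2
    have a3 : A = B := by
      refine mul_left_cancel₀ (mul_ne_zero b0 h13) ?_
      linear_combination 4 * a1 + 4 * a2 - 4 * n1 - 5 * B * (A - B) * he
    subst a3
    have hB : 3 * A ^ 2 = 4 := by linear_combination 4 * a2 + 5 * A ^ 2 * he
    have k := cjq' h hx hR ((n4.mul hk).congr (show _ = (e * i * 32) • _ by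
      rw [mul_smul, ← cB (g := g) A, MM]
      simp only [add_mul, smul_mul_assoc, mul_smul_comm, one_mul, WK hg, PK hg]
      match_scalars
      · linear_combination (-A * e) * hi
      · linear_combination (-A * e) * hi + A * e * he
      · ring))
    have g1 : g - 1 ≠ 0 := fun k => mul_ne_zero (pow_ne_zero 2 h2) h3 (by linear_combination hg - (g + 1) * k)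
    have n := mul_ne_zero (mul_ne_zero (mul_ne_zero (pow_ne_zero 2 h2) h3) h11) (pow_ne_zero 2 h13)
    rcases mul_eq_zero.1 k with k | k
    · have k' : 512 - 777 * A = 0 := mul_left_cancel₀ (mul_ne_zero (pow_ne_zero 2 h2) g1) (by
        linear_combination 3 * k - (-444 + 138 * A - 21 * A ^ 2) * hg - (-1400 + 152 * g) * hB)
      exact mul_ne_zero n h73 (by linear_combination (-777 ^ 2) * hB - 3 * (512 + 777 * A) * k')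
    · have k' : 64 + 93 * A = 0 := mul_left_cancel₀ (mul_ne_zero (pow_ne_zero 5 h2) g1) (by
        linear_combination 3 * k - (-804 - 528 * A - 291 * A ^ 2) * hg - (-1400 + 152 * g) * hB)
      exact n (by linear_combination (-93 ^ 2) * hB - 3 * (64 - 93 * A) * k')

variable {hg : g * g = -11} {G : Subgroup (GL (Fin 5) F)}

theorem gen' {p : ℕ} (h : FG F p) (h3 : (3 : F) ≠ 0) (h31 : (31 : F) ≠ 0) (h13 : (13 : F) ≠ 0) (h73 : (73 : F) ≠ 0)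
    (ht : Q hg G 3 t8)
    (hT : Q hg G 3 T8) (hz : Q hg G 0 z2Z) (hx : Q hg G 0 xZ) : Q hg G 0 RZ := by
  have h2 := h.two
  have a1 := Q.step h2 (j := 0) (m := 3) (Z := !![⟨-4,0⟩, ⟨0,0⟩, ⟨0,0⟩, ⟨-3,1⟩, ⟨6,0⟩; ⟨0,0⟩, ⟨-4,0⟩, ⟨2,-2⟩, ⟨0,0⟩, ⟨0,0⟩; ⟨0,0⟩, ⟨-2,-2⟩, ⟨-4,0⟩, ⟨0,0⟩, ⟨0,0⟩; ⟨8,0⟩, ⟨0,0⟩, ⟨0,0⟩, ⟨-6,2⟩, ⟨4,0⟩; ⟨8,0⟩, ⟨0,0⟩, ⟨0,0⟩, ⟨2,2⟩, ⟨4,0⟩]) ht hx rfl (by decide +kernel)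
  have hk := Q.step h2 (j := 0) (m := 6) (Z := k64) a1 hT rfl (by decide +kernel)
  have hK := Q.inv h2 (l := 6) (Y := K64) hk (by decide +kernel)
  have a2 := Q.step h2 (j := 0) (m := 6) (Z := !![⟨8,8⟩, ⟨0,0⟩, ⟨0,0⟩, ⟨32,8⟩, ⟨4,-4⟩; ⟨0,0⟩, ⟨64,0⟩, ⟨0,0⟩, ⟨0,0⟩, ⟨0,0⟩; ⟨0,0⟩, ⟨0,0⟩, ⟨-64,0⟩, ⟨0,0⟩, ⟨0,0⟩; ⟨-16,-16⟩, ⟨0,0⟩, ⟨0,0⟩, ⟨32,16⟩, ⟨24,-24⟩; ⟨-80,-16⟩, ⟨0,0⟩, ⟨0,0⟩, ⟨48,0⟩, ⟨-24,-8⟩]) hz hk rfl (by decide +kernel)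
  have a3 := Q.step h2 (j := 0) (m := 6) (Z := !![⟨-8,-8⟩, ⟨0,0⟩, ⟨0,0⟩, ⟨32,8⟩, ⟨4,-4⟩; ⟨0,0⟩, ⟨64,0⟩, ⟨0,0⟩, ⟨0,0⟩, ⟨0,0⟩; ⟨0,0⟩, ⟨0,0⟩, ⟨64,0⟩, ⟨0,0⟩, ⟨0,0⟩; ⟨16,16⟩, ⟨0,0⟩, ⟨0,0⟩, ⟨32,16⟩, ⟨24,-24⟩; ⟨80,16⟩, ⟨0,0⟩, ⟨0,0⟩, ⟨48,0⟩, ⟨-24,-8⟩]) a2 hz rfl (by decide +kernel)
  have hw := Q.step h2 (j := 6) (m := 6) (Z := w64) a3 hK rfl (by decide +kernel)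
  obtain ⟨e, he⟩ : ∃ e : F, 2 ^ 6 * e = 1 := ⟨_, mul_inv_cancel₀ (pow_ne_zero 6 h2)⟩
  obtain ⟨A, a, b⟩ := core' h h3 h31 h13 h73 hg (G := G.comap (Units.map E3)) (e := e) (by linear_combination he)
    (down ((hk.inM he).congr (by
      ext i j; fin_cases i <;> fin_cases j <;> simp [k64, E3, Kz, ev_mk] <;>
        first | ring1 | linear_combination he | (left; ring1))))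
    (down ((hw.inM he).congr (by
      ext i j; fin_cases i <;> fin_cases j <;> simp [w64, E3, Wz, ev_mk] <;>
        first | ring1 | linear_combination he | (left; ring1))))
    (down ((hx.inM (e := 1) (by simp)).congr (by
      ext i j; fin_cases i <;> fin_cases j <;> simp [xZ, E3, D3])))
  refine ⟨_, a, Rp.zero.2 ((congrArg E3 b).trans ?_)⟩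
  ext i j; fin_cases i <;> fin_cases j <;> simp [RZ, E3, D3]

theorem Q.mul {k l : ℕ} {X Y : MZ} (a : Q hg G k X) (b : Q hg G l Y) : Q hg G (k + l) (X * Y) :=
  let ⟨_, a1, a2⟩ := a; let ⟨_, b1, b2⟩ := b; ⟨_, mul_mem a1 b1, a2.mul b2⟩

theorem Q.cong (h2 : (2 : F) ≠ 0) {n : ℤ} (hn : (n : F) = 0) {k : ℕ} {X Z : MZ} (a : Q hg G k X)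
    (d : ∀ i j, (X i j - 2 ^ k * Z i j).re % n = 0 ∧ (X i j - 2 ^ k * Z i j).im % n = 0) : Q hg G 0 Z := by
  obtain ⟨A, a1, a2⟩ := a
  refine ⟨A, a1, Rp.zero.2 (smul_right_injective _ (pow_ne_zero k h2) (a2.trans ?_))⟩
  ext i j
  obtain ⟨c, e1⟩ := Int.dvd_of_emod_eq_zero (d i j).1
  obtain ⟨c', e2⟩ := Int.dvd_of_emod_eq_zero (d i j).2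
  have e : ev hg (X i j - 2 ^ k * Z i j) = 0 := by
    rw [show X i j - 2 ^ k * Z i j = ⟨n * c, n * c'⟩ from Zsqrtd.ext e1 e2, ev_mk]; simp [hn]
  simpa [sub_eq_zero, map_ofNat] using e

theorem s13 (h2 : (2 : F) ≠ 0) (hn : ((13 : ℤ) : F) = 0) (ht : Q hg G 3 t8) (hT : Q hg G 3 T8)
    (hz : Q hg G 0 z2Z) (hx : Q hg G 0 xZ) : Q hg G 0 RZ := by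
  have t := Q.cong h2 hn ht (Z := !![⟨6,0⟩, ⟨0,0⟩, ⟨0,0⟩, ⟨11,8⟩, ⟨11,5⟩; ⟨0,0⟩, ⟨6,0⟩, ⟨10,3⟩, ⟨0,0⟩, ⟨0,0⟩; ⟨0,0⟩, ⟨3,3⟩, ⟨6,0⟩, ⟨0,0⟩, ⟨0,0⟩; ⟨1,0⟩, ⟨0,0⟩, ⟨0,0⟩, ⟨10,3⟩, ⟨9,10⟩; ⟨1,0⟩, ⟨0,0⟩, ⟨0,0⟩, ⟨9,3⟩, ⟨10,10⟩]) (by decide +kernel)
  have T := Q.cong h2 hn hT (Z := !![⟨6,0⟩, ⟨0,0⟩, ⟨0,0⟩, ⟨2,5⟩, ⟨2,8⟩; ⟨0,0⟩, ⟨6,0⟩, ⟨3,10⟩, ⟨0,0⟩, ⟨0,0⟩; ⟨0,0⟩, ⟨10,10⟩, ⟨6,0⟩, ⟨0,0⟩, ⟨0,0⟩; ⟨12,0⟩, ⟨0,0⟩, ⟨0,0⟩, ⟨10,3⟩, ⟨9,10⟩; ⟨12,0⟩, ⟨0,0⟩, ⟨0,0⟩, ⟨9,3⟩, ⟨10,10⟩]) (by decide +kernel)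
  have x := Q.cong h2 hn hx (Z := !![⟨1,0⟩, ⟨0,0⟩, ⟨0,0⟩, ⟨0,0⟩, ⟨0,0⟩; ⟨0,0⟩, ⟨1,0⟩, ⟨0,0⟩, ⟨0,0⟩, ⟨0,0⟩; ⟨0,0⟩, ⟨0,0⟩, ⟨1,0⟩, ⟨0,0⟩, ⟨0,0⟩; ⟨0,0⟩, ⟨0,0⟩, ⟨0,0⟩, ⟨0,0⟩, ⟨12,0⟩; ⟨0,0⟩, ⟨0,0⟩, ⟨0,0⟩, ⟨1,0⟩, ⟨12,0⟩]) (by decide +kernel)
  have z := Q.cong h2 hn hz (Z := !![⟨12,0⟩, ⟨0,0⟩, ⟨0,0⟩, ⟨0,0⟩, ⟨0,0⟩; ⟨0,0⟩, ⟨1,0⟩, ⟨0,0⟩, ⟨0,0⟩, ⟨0,0⟩; ⟨0,0⟩, ⟨0,0⟩, ⟨12,0⟩, ⟨0,0⟩, ⟨0,0⟩; ⟨0,0⟩, ⟨0,0⟩, ⟨0,0⟩, ⟨1,0⟩, ⟨0,0⟩; ⟨0,0⟩, ⟨0,0⟩, ⟨0,0⟩, ⟨0,0⟩, ⟨1,0⟩]) (by decide +kernel)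
  have X := Q.cong h2 hn (Q.mul x x) (Z := !![⟨1,0⟩, ⟨0,0⟩, ⟨0,0⟩, ⟨0,0⟩, ⟨0,0⟩; ⟨0,0⟩, ⟨1,0⟩, ⟨0,0⟩, ⟨0,0⟩, ⟨0,0⟩; ⟨0,0⟩, ⟨0,0⟩, ⟨1,0⟩, ⟨0,0⟩, ⟨0,0⟩; ⟨0,0⟩, ⟨0,0⟩, ⟨0,0⟩, ⟨12,0⟩, ⟨1,0⟩; ⟨0,0⟩, ⟨0,0⟩, ⟨0,0⟩, ⟨12,0⟩, ⟨0,0⟩]) (by decide +kernel)
  have a1 := Q.cong h2 hn (Q.mul t x) (Z := !![⟨6,0⟩, ⟨0,0⟩, ⟨0,0⟩, ⟨11,5⟩, ⟨4,0⟩; ⟨0,0⟩, ⟨6,0⟩, ⟨10,3⟩, ⟨0,0⟩, ⟨0,0⟩; ⟨0,0⟩, ⟨3,3⟩, ⟨6,0⟩, ⟨0,0⟩, ⟨0,0⟩; ⟨1,0⟩, ⟨0,0⟩, ⟨0,0⟩, ⟨9,10⟩, ⟨7,0⟩; ⟨1,0⟩, ⟨0,0⟩, ⟨0,0⟩, ⟨10,10⟩, ⟨7,0⟩]) (by decide +kernel)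
  have a := Q.cong h2 hn (Q.mul a1 T) (Z := !![⟨8,8⟩, ⟨0,0⟩, ⟨0,0⟩, ⟨6,8⟩, ⟨4,9⟩; ⟨0,0⟩, ⟨1,0⟩, ⟨0,0⟩, ⟨0,0⟩, ⟨0,0⟩; ⟨0,0⟩, ⟨0,0⟩, ⟨1,0⟩, ⟨0,0⟩, ⟨0,0⟩; ⟨3,3⟩, ⟨0,0⟩, ⟨0,0⟩, ⟨7,10⟩, ⟨2,11⟩; ⟨2,3⟩, ⟨0,0⟩, ⟨0,0⟩, ⟨4,0⟩, ⟨11,8⟩]) (by decide +kernel)
  have b1 := Q.cong h2 hn (Q.mul T x) (Z := !![⟨6,0⟩, ⟨0,0⟩, ⟨0,0⟩, ⟨2,8⟩, ⟨9,0⟩; ⟨0,0⟩, ⟨6,0⟩, ⟨3,10⟩, ⟨0,0⟩, ⟨0,0⟩; ⟨0,0⟩, ⟨10,10⟩, ⟨6,0⟩, ⟨0,0⟩, ⟨0,0⟩; ⟨12,0⟩, ⟨0,0⟩, ⟨0,0⟩, ⟨9,10⟩, ⟨7,0⟩; ⟨12,0⟩, ⟨0,0⟩, ⟨0,0⟩, ⟨10,10⟩, ⟨7,0⟩]) (by decide +kernel)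
  have b := Q.cong h2 hn (Q.mul b1 t) (Z := !![⟨8,8⟩, ⟨0,0⟩, ⟨0,0⟩, ⟨7,5⟩, ⟨9,4⟩; ⟨0,0⟩, ⟨1,0⟩, ⟨0,0⟩, ⟨0,0⟩, ⟨0,0⟩; ⟨0,0⟩, ⟨0,0⟩, ⟨1,0⟩, ⟨0,0⟩, ⟨0,0⟩; ⟨10,10⟩, ⟨0,0⟩, ⟨0,0⟩, ⟨7,10⟩, ⟨2,11⟩; ⟨11,10⟩, ⟨0,0⟩, ⟨0,0⟩, ⟨4,0⟩, ⟨11,8⟩]) (by decide +kernel)
  have A := Q.cong h2 hn (Q.mul a a) (Z := !![⟨8,5⟩, ⟨0,0⟩, ⟨0,0⟩, ⟨4,4⟩, ⟨6,5⟩; ⟨0,0⟩, ⟨1,0⟩, ⟨0,0⟩, ⟨0,0⟩, ⟨0,0⟩; ⟨0,0⟩, ⟨0,0⟩, ⟨1,0⟩, ⟨0,0⟩, ⟨0,0⟩; ⟨2,10⟩, ⟨0,0⟩, ⟨0,0⟩, ⟨11,5⟩, ⟨4,0⟩; ⟨3,10⟩, ⟨0,0⟩, ⟨0,0⟩, ⟨2,2⟩, ⟨7,3⟩]) (by decide +kernel)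
  have B := Q.cong h2 hn (Q.mul b b) (Z := !![⟨8,5⟩, ⟨0,0⟩, ⟨0,0⟩, ⟨9,9⟩, ⟨7,8⟩; ⟨0,0⟩, ⟨1,0⟩, ⟨0,0⟩, ⟨0,0⟩, ⟨0,0⟩; ⟨0,0⟩, ⟨0,0⟩, ⟨1,0⟩, ⟨0,0⟩, ⟨0,0⟩; ⟨11,3⟩, ⟨0,0⟩, ⟨0,0⟩, ⟨11,5⟩, ⟨4,0⟩; ⟨10,3⟩, ⟨0,0⟩, ⟨0,0⟩, ⟨2,2⟩, ⟨7,3⟩]) (by decide +kernel)
  have k1 := Q.cong h2 hn (Q.mul a b) (Z := !![⟨12,4⟩, ⟨0,0⟩, ⟨0,0⟩, ⟨3,1⟩, ⟨5,5⟩; ⟨0,0⟩, ⟨1,0⟩, ⟨0,0⟩, ⟨0,0⟩, ⟨0,0⟩; ⟨0,0⟩, ⟨0,0⟩, ⟨1,0⟩, ⟨0,0⟩, ⟨0,0⟩; ⟨12,8⟩, ⟨0,0⟩, ⟨0,0⟩, ⟨9,12⟩, ⟨2,0⟩; ⟨8,5⟩, ⟨0,0⟩, ⟨0,0⟩, ⟨12,12⟩, ⟨0,8⟩]) (by decide +kernel)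
  have k := Q.cong h2 hn (Q.mul k1 a) (Z := !![⟨7,9⟩, ⟨0,0⟩, ⟨0,0⟩, ⟨2,8⟩, ⟨10,7⟩; ⟨0,0⟩, ⟨1,0⟩, ⟨0,0⟩, ⟨0,0⟩, ⟨0,0⟩; ⟨0,0⟩, ⟨0,0⟩, ⟨1,0⟩, ⟨0,0⟩, ⟨0,0⟩; ⟨2,8⟩, ⟨0,0⟩, ⟨0,0⟩, ⟨4,6⟩, ⟨2,6⟩; ⟨1,10⟩, ⟨0,0⟩, ⟨0,0⟩, ⟨10,5⟩, ⟨5,11⟩]) (by decide +kernel)
  have K1 := Q.cong h2 hn (Q.mul A B) (Z := !![⟨12,9⟩, ⟨0,0⟩, ⟨0,0⟩, ⟨5,8⟩, ⟨3,12⟩; ⟨0,0⟩, ⟨1,0⟩, ⟨0,0⟩, ⟨0,0⟩, ⟨0,0⟩; ⟨0,0⟩, ⟨0,0⟩, ⟨1,0⟩, ⟨0,0⟩, ⟨0,0⟩; ⟨8,8⟩, ⟨0,0⟩, ⟨0,0⟩, ⟨0,5⟩, ⟨12,1⟩; ⟨12,5⟩, ⟨0,0⟩, ⟨0,0⟩, ⟨2,0⟩, ⟨9,1⟩]) (by decide +kernel)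
  have K := Q.cong h2 hn (Q.mul K1 A) (Z := !![⟨7,4⟩, ⟨0,0⟩, ⟨0,0⟩, ⟨10,6⟩, ⟨2,5⟩; ⟨0,0⟩, ⟨1,0⟩, ⟨0,0⟩, ⟨0,0⟩, ⟨0,0⟩; ⟨0,0⟩, ⟨0,0⟩, ⟨1,0⟩, ⟨0,0⟩, ⟨0,0⟩; ⟨1,3⟩, ⟨0,0⟩, ⟨0,0⟩, ⟨5,2⟩, ⟨10,8⟩; ⟨2,5⟩, ⟨0,0⟩, ⟨0,0⟩, ⟨2,7⟩, ⟨4,7⟩]) (by decide +kernel)
  have w1 := Q.cong h2 hn (Q.mul z k) (Z := !![⟨6,4⟩, ⟨0,0⟩, ⟨0,0⟩, ⟨11,5⟩, ⟨3,6⟩; ⟨0,0⟩, ⟨1,0⟩, ⟨0,0⟩, ⟨0,0⟩, ⟨0,0⟩; ⟨0,0⟩, ⟨0,0⟩, ⟨12,0⟩, ⟨0,0⟩, ⟨0,0⟩; ⟨2,8⟩, ⟨0,0⟩, ⟨0,0⟩, ⟨4,6⟩, ⟨2,6⟩; ⟨1,10⟩, ⟨0,0⟩, ⟨0,0⟩, ⟨10,5⟩, ⟨5,11⟩]) (by decide +kernel)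
  have w2 := Q.cong h2 hn (Q.mul w1 z) (Z := !![⟨7,9⟩, ⟨0,0⟩, ⟨0,0⟩, ⟨11,5⟩, ⟨3,6⟩; ⟨0,0⟩, ⟨1,0⟩, ⟨0,0⟩, ⟨0,0⟩, ⟨0,0⟩; ⟨0,0⟩, ⟨0,0⟩, ⟨1,0⟩, ⟨0,0⟩, ⟨0,0⟩; ⟨11,5⟩, ⟨0,0⟩, ⟨0,0⟩, ⟨4,6⟩, ⟨2,6⟩; ⟨12,3⟩, ⟨0,0⟩, ⟨0,0⟩, ⟨10,5⟩, ⟨5,11⟩]) (by decide +kernel)
  have w := Q.cong h2 hn (Q.mul w2 K) (Z := !![⟨7,0⟩, ⟨0,0⟩, ⟨0,0⟩, ⟨5,4⟩, ⟨0,2⟩; ⟨0,0⟩, ⟨1,0⟩, ⟨0,0⟩, ⟨0,0⟩, ⟨0,0⟩; ⟨0,0⟩, ⟨0,0⟩, ⟨1,0⟩, ⟨0,0⟩, ⟨0,0⟩; ⟨0,2⟩, ⟨0,0⟩, ⟨0,0⟩, ⟨3,11⟩, ⟨1,0⟩; ⟨8,8⟩, ⟨0,0⟩, ⟨0,0⟩, ⟨0,9⟩, ⟨5,2⟩]) (by decide +kernel)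
  have v2 := Q.cong h2 hn (Q.mul w w) (Z := !![⟨6,0⟩, ⟨0,0⟩, ⟨0,0⟩, ⟨5,4⟩, ⟨0,2⟩; ⟨0,0⟩, ⟨1,0⟩, ⟨0,0⟩, ⟨0,0⟩, ⟨0,0⟩; ⟨0,0⟩, ⟨0,0⟩, ⟨1,0⟩, ⟨0,0⟩, ⟨0,0⟩; ⟨0,2⟩, ⟨0,0⟩, ⟨0,0⟩, ⟨7,7⟩, ⟨3,0⟩; ⟨8,8⟩, ⟨0,0⟩, ⟨0,0⟩, ⟨0,1⟩, ⟨0,6⟩]) (by decide +kernel)
  have v := Q.cong h2 hn (Q.mul v2 w) (Z := !![⟨12,0⟩, ⟨0,0⟩, ⟨0,0⟩, ⟨0,0⟩, ⟨0,0⟩; ⟨0,0⟩, ⟨1,0⟩, ⟨0,0⟩, ⟨0,0⟩, ⟨0,0⟩; ⟨0,0⟩, ⟨0,0⟩, ⟨1,0⟩, ⟨0,0⟩, ⟨0,0⟩; ⟨0,0⟩, ⟨0,0⟩, ⟨0,0⟩, ⟨9,5⟩, ⟨4,0⟩; ⟨0,0⟩, ⟨0,0⟩, ⟨0,0⟩, ⟨0,10⟩, ⟨4,8⟩]) (by decide +kernel)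
  have y1 := Q.cong h2 hn (Q.mul x v) (Z := !![⟨12,0⟩, ⟨0,0⟩, ⟨0,0⟩, ⟨0,0⟩, ⟨0,0⟩; ⟨0,0⟩, ⟨1,0⟩, ⟨0,0⟩, ⟨0,0⟩, ⟨0,0⟩; ⟨0,0⟩, ⟨0,0⟩, ⟨1,0⟩, ⟨0,0⟩, ⟨0,0⟩; ⟨0,0⟩, ⟨0,0⟩, ⟨0,0⟩, ⟨0,3⟩, ⟨9,5⟩; ⟨0,0⟩, ⟨0,0⟩, ⟨0,0⟩, ⟨9,8⟩, ⟨0,5⟩]) (by decide +kernel)
  have y := Q.cong h2 hn (Q.mul y1 y1) (Z := !![⟨1,0⟩, ⟨0,0⟩, ⟨0,0⟩, ⟨0,0⟩, ⟨0,0⟩; ⟨0,0⟩, ⟨1,0⟩, ⟨0,0⟩, ⟨0,0⟩, ⟨0,0⟩; ⟨0,0⟩, ⟨0,0⟩, ⟨1,0⟩, ⟨0,0⟩, ⟨0,0⟩; ⟨0,0⟩, ⟨0,0⟩, ⟨0,0⟩, ⟨10,0⟩, ⟨2,7⟩; ⟨0,0⟩, ⟨0,0⟩, ⟨0,0⟩, ⟨11,7⟩, ⟨3,0⟩]) (by decide +kernel)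
  have r := Q.cong h2 hn (Q.mul y y) (Z := RZ) (by decide +kernel)
  exact r

theorem s73 (h2 : (2 : F) ≠ 0) (hn : ((73 : ℤ) : F) = 0) (ht : Q hg G 3 t8) (hT : Q hg G 3 T8)
    (hz : Q hg G 0 z2Z) (hx : Q hg G 0 xZ) : Q hg G 0 RZ := by
  have t := Q.cong h2 hn ht (Z := !![⟨36,0⟩, ⟨0,0⟩, ⟨0,0⟩, ⟨27,9⟩, ⟨27,64⟩; ⟨0,0⟩, ⟨36,0⟩, ⟨55,18⟩, ⟨0,0⟩, ⟨0,0⟩; ⟨0,0⟩, ⟨18,18⟩, ⟨36,0⟩, ⟨0,0⟩, ⟨0,0⟩; ⟨1,0⟩, ⟨0,0⟩, ⟨0,0⟩, ⟨55,18⟩, ⟨54,55⟩; ⟨1,0⟩, ⟨0,0⟩, ⟨0,0⟩, ⟨54,18⟩, ⟨55,55⟩]) (by decide +kernel)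
  have T := Q.cong h2 hn hT (Z := !![⟨36,0⟩, ⟨0,0⟩, ⟨0,0⟩, ⟨46,64⟩, ⟨46,9⟩; ⟨0,0⟩, ⟨36,0⟩, ⟨18,55⟩, ⟨0,0⟩, ⟨0,0⟩; ⟨0,0⟩, ⟨55,55⟩, ⟨36,0⟩, ⟨0,0⟩, ⟨0,0⟩; ⟨72,0⟩, ⟨0,0⟩, ⟨0,0⟩, ⟨55,18⟩, ⟨54,55⟩; ⟨72,0⟩, ⟨0,0⟩, ⟨0,0⟩, ⟨54,18⟩, ⟨55,55⟩]) (by decide +kernel)
  have x := Q.cong h2 hn hx (Z := !![⟨1,0⟩, ⟨0,0⟩, ⟨0,0⟩, ⟨0,0⟩, ⟨0,0⟩; ⟨0,0⟩, ⟨1,0⟩, ⟨0,0⟩, ⟨0,0⟩, ⟨0,0⟩; ⟨0,0⟩, ⟨0,0⟩, ⟨1,0⟩, ⟨0,0⟩, ⟨0,0⟩; ⟨0,0⟩, ⟨0,0⟩, ⟨0,0⟩, ⟨0,0⟩, ⟨72,0⟩; ⟨0,0⟩, ⟨0,0⟩, ⟨0,0⟩, ⟨1,0⟩, ⟨72,0⟩]) (by decide +kernel)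
  have z := Q.cong h2 hn hz (Z := !![⟨72,0⟩, ⟨0,0⟩, ⟨0,0⟩, ⟨0,0⟩, ⟨0,0⟩; ⟨0,0⟩, ⟨1,0⟩, ⟨0,0⟩, ⟨0,0⟩, ⟨0,0⟩; ⟨0,0⟩, ⟨0,0⟩, ⟨72,0⟩, ⟨0,0⟩, ⟨0,0⟩; ⟨0,0⟩, ⟨0,0⟩, ⟨0,0⟩, ⟨1,0⟩, ⟨0,0⟩; ⟨0,0⟩, ⟨0,0⟩, ⟨0,0⟩, ⟨0,0⟩, ⟨1,0⟩]) (by decide +kernel)
  have X := Q.cong h2 hn (Q.mul x x) (Z := !![⟨1,0⟩, ⟨0,0⟩, ⟨0,0⟩, ⟨0,0⟩, ⟨0,0⟩; ⟨0,0⟩, ⟨1,0⟩, ⟨0,0⟩, ⟨0,0⟩, ⟨0,0⟩; ⟨0,0⟩, ⟨0,0⟩, ⟨1,0⟩, ⟨0,0⟩, ⟨0,0⟩; ⟨0,0⟩, ⟨0,0⟩, ⟨0,0⟩, ⟨72,0⟩, ⟨1,0⟩; ⟨0,0⟩, ⟨0,0⟩, ⟨0,0⟩, ⟨72,0⟩, ⟨0,0⟩]) (by decide +kernel)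
  have a1 := Q.cong h2 hn (Q.mul t x) (Z := !![⟨36,0⟩, ⟨0,0⟩, ⟨0,0⟩, ⟨27,64⟩, ⟨19,0⟩; ⟨0,0⟩, ⟨36,0⟩, ⟨55,18⟩, ⟨0,0⟩, ⟨0,0⟩; ⟨0,0⟩, ⟨18,18⟩, ⟨36,0⟩, ⟨0,0⟩, ⟨0,0⟩; ⟨1,0⟩, ⟨0,0⟩, ⟨0,0⟩, ⟨54,55⟩, ⟨37,0⟩; ⟨1,0⟩, ⟨0,0⟩, ⟨0,0⟩, ⟨55,55⟩, ⟨37,0⟩]) (by decide +kernel)
  have a := Q.cong h2 hn (Q.mul a1 T) (Z := !![⟨9,9⟩, ⟨0,0⟩, ⟨0,0⟩, ⟨36,9⟩, ⟨41,32⟩; ⟨0,0⟩, ⟨1,0⟩, ⟨0,0⟩, ⟨0,0⟩, ⟨0,0⟩; ⟨0,0⟩, ⟨0,0⟩, ⟨1,0⟩, ⟨0,0⟩, ⟨0,0⟩; ⟨18,18⟩, ⟨0,0⟩, ⟨0,0⟩, ⟨37,55⟩, ⟨46,27⟩; ⟨17,18⟩, ⟨0,0⟩, ⟨0,0⟩, ⟨19,0⟩, ⟨27,9⟩]) (by decide +kernel)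
  have b1 := Q.cong h2 hn (Q.mul T x) (Z := !![⟨36,0⟩, ⟨0,0⟩, ⟨0,0⟩, ⟨46,9⟩, ⟨54,0⟩; ⟨0,0⟩, ⟨36,0⟩, ⟨18,55⟩, ⟨0,0⟩, ⟨0,0⟩; ⟨0,0⟩, ⟨55,55⟩, ⟨36,0⟩, ⟨0,0⟩, ⟨0,0⟩; ⟨72,0⟩, ⟨0,0⟩, ⟨0,0⟩, ⟨54,55⟩, ⟨37,0⟩; ⟨72,0⟩, ⟨0,0⟩, ⟨0,0⟩, ⟨55,55⟩, ⟨37,0⟩]) (by decide +kernel)
  have b := Q.cong h2 hn (Q.mul b1 t) (Z := !![⟨9,9⟩, ⟨0,0⟩, ⟨0,0⟩, ⟨37,64⟩, ⟨32,41⟩; ⟨0,0⟩, ⟨1,0⟩, ⟨0,0⟩, ⟨0,0⟩, ⟨0,0⟩; ⟨0,0⟩, ⟨0,0⟩, ⟨1,0⟩, ⟨0,0⟩, ⟨0,0⟩; ⟨55,55⟩, ⟨0,0⟩, ⟨0,0⟩, ⟨37,55⟩, ⟨46,27⟩; ⟨56,55⟩, ⟨0,0⟩, ⟨0,0⟩, ⟨19,0⟩, ⟨27,9⟩]) (by decide +kernel)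
  have A := Q.cong h2 hn (Q.mul a a) (Z := !![⟨9,64⟩, ⟨0,0⟩, ⟨0,0⟩, ⟨41,41⟩, ⟨36,64⟩; ⟨0,0⟩, ⟨1,0⟩, ⟨0,0⟩, ⟨0,0⟩, ⟨0,0⟩; ⟨0,0⟩, ⟨0,0⟩, ⟨1,0⟩, ⟨0,0⟩, ⟨0,0⟩; ⟨17,55⟩, ⟨0,0⟩, ⟨0,0⟩, ⟨27,64⟩, ⟨19,0⟩; ⟨18,55⟩, ⟨0,0⟩, ⟨0,0⟩, ⟨46,46⟩, ⟨37,18⟩]) (by decide +kernel)
  have B := Q.cong h2 hn (Q.mul b b) (Z := !![⟨9,64⟩, ⟨0,0⟩, ⟨0,0⟩, ⟨32,32⟩, ⟨37,9⟩; ⟨0,0⟩, ⟨1,0⟩, ⟨0,0⟩, ⟨0,0⟩, ⟨0,0⟩; ⟨0,0⟩, ⟨0,0⟩, ⟨1,0⟩, ⟨0,0⟩, ⟨0,0⟩; ⟨56,18⟩, ⟨0,0⟩, ⟨0,0⟩, ⟨27,64⟩, ⟨19,0⟩; ⟨55,18⟩, ⟨0,0⟩, ⟨0,0⟩, ⟨46,46⟩, ⟨37,18⟩]) (by decide +kernel)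
  have k1 := Q.cong h2 hn (Q.mul a b) (Z := !![⟨50,41⟩, ⟨0,0⟩, ⟨0,0⟩, ⟨7,34⟩, ⟨13,64⟩; ⟨0,0⟩, ⟨1,0⟩, ⟨0,0⟩, ⟨0,0⟩, ⟨0,0⟩; ⟨0,0⟩, ⟨0,0⟩, ⟨1,0⟩, ⟨0,0⟩, ⟨0,0⟩; ⟨28,9⟩, ⟨0,0⟩, ⟨0,0⟩, ⟨32,50⟩, ⟨46,0⟩; ⟨9,64⟩, ⟨0,0⟩, ⟨0,0⟩, ⟨50,50⟩, ⟨0,9⟩]) (by decide +kernel)
  have k := Q.cong h2 hn (Q.mul k1 A) (Z := !![⟨30,48⟩, ⟨0,0⟩, ⟨0,0⟩, ⟨4,25⟩, ⟨6,40⟩; ⟨0,0⟩, ⟨1,0⟩, ⟨0,0⟩, ⟨0,0⟩, ⟨0,0⟩; ⟨0,0⟩, ⟨0,0⟩, ⟨1,0⟩, ⟨0,0⟩, ⟨0,0⟩; ⟨5,5⟩, ⟨0,0⟩, ⟨0,0⟩, ⟨55,23⟩, ⟨48,25⟩; ⟨42,23⟩, ⟨0,0⟩, ⟨0,0⟩, ⟨42,0⟩, ⟨61,2⟩]) (by decide +kernel)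
  have K1 := Q.cong h2 hn (Q.mul a B) (Z := !![⟨45,0⟩, ⟨0,0⟩, ⟨0,0⟩, ⟨7,57⟩, ⟨52,25⟩; ⟨0,0⟩, ⟨1,0⟩, ⟨0,0⟩, ⟨0,0⟩, ⟨0,0⟩; ⟨0,0⟩, ⟨0,0⟩, ⟨1,0⟩, ⟨0,0⟩, ⟨0,0⟩; ⟨19,0⟩, ⟨0,0⟩, ⟨0,0⟩, ⟨15,41⟩, ⟨31,50⟩; ⟨1,18⟩, ⟨0,0⟩, ⟨0,0⟩, ⟨23,50⟩, ⟨31,32⟩]) (by decide +kernel)
  have K := Q.cong h2 hn (Q.mul K1 A) (Z := !![⟨30,25⟩, ⟨0,0⟩, ⟨0,0⟩, ⟨47,1⟩, ⟨41,57⟩; ⟨0,0⟩, ⟨1,0⟩, ⟨0,0⟩, ⟨0,0⟩, ⟨0,0⟩; ⟨0,0⟩, ⟨0,0⟩, ⟨1,0⟩, ⟨0,0⟩, ⟨0,0⟩; ⟨22,14⟩, ⟨0,0⟩, ⟨0,0⟩, ⟨57,2⟩, ⟨27,23⟩; ⟨69,23⟩, ⟨0,0⟩, ⟨0,0⟩, ⟨29,2⟩, ⟨59,46⟩]) (by decide +kernel)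
  have w1 := Q.cong h2 hn (Q.mul z k) (Z := !![⟨43,25⟩, ⟨0,0⟩, ⟨0,0⟩, ⟨69,48⟩, ⟨67,33⟩; ⟨0,0⟩, ⟨1,0⟩, ⟨0,0⟩, ⟨0,0⟩, ⟨0,0⟩; ⟨0,0⟩, ⟨0,0⟩, ⟨72,0⟩, ⟨0,0⟩, ⟨0,0⟩; ⟨5,5⟩, ⟨0,0⟩, ⟨0,0⟩, ⟨55,23⟩, ⟨48,25⟩; ⟨42,23⟩, ⟨0,0⟩, ⟨0,0⟩, ⟨42,0⟩, ⟨61,2⟩]) (by decide +kernel)
  have w2 := Q.cong h2 hn (Q.mul w1 z) (Z := !![⟨30,48⟩, ⟨0,0⟩, ⟨0,0⟩, ⟨69,48⟩, ⟨67,33⟩; ⟨0,0⟩, ⟨1,0⟩, ⟨0,0⟩, ⟨0,0⟩, ⟨0,0⟩; ⟨0,0⟩, ⟨0,0⟩, ⟨1,0⟩, ⟨0,0⟩, ⟨0,0⟩; ⟨68,68⟩, ⟨0,0⟩, ⟨0,0⟩, ⟨55,23⟩, ⟨48,25⟩; ⟨31,50⟩, ⟨0,0⟩, ⟨0,0⟩, ⟨42,0⟩, ⟨61,2⟩]) (by decide +kernel)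
  have w := Q.cong h2 hn (Q.mul w2 K) (Z := !![⟨0,0⟩, ⟨0,0⟩, ⟨0,0⟩, ⟨12,46⟩, ⟨11,56⟩; ⟨0,0⟩, ⟨1,0⟩, ⟨0,0⟩, ⟨0,0⟩, ⟨0,0⟩; ⟨0,0⟩, ⟨0,0⟩, ⟨1,0⟩, ⟨0,0⟩, ⟨0,0⟩; ⟨41,34⟩, ⟨0,0⟩, ⟨0,0⟩, ⟨6,31⟩, ⟨20,42⟩; ⟨56,24⟩, ⟨0,0⟩, ⟨0,0⟩, ⟨62,17⟩, ⟨68,42⟩]) (by decide +kernel)
  have v2 := Q.cong h2 hn (Q.mul w w) (Z := !![⟨72,0⟩, ⟨0,0⟩, ⟨0,0⟩, ⟨0,0⟩, ⟨0,0⟩; ⟨0,0⟩, ⟨1,0⟩, ⟨0,0⟩, ⟨0,0⟩, ⟨0,0⟩; ⟨0,0⟩, ⟨0,0⟩, ⟨1,0⟩, ⟨0,0⟩, ⟨0,0⟩; ⟨0,0⟩, ⟨0,0⟩, ⟨0,0⟩, ⟨11,62⟩, ⟨40,11⟩; ⟨0,0⟩, ⟨0,0⟩, ⟨0,0⟩, ⟨51,34⟩, ⟨62,11⟩]) (by decide +kernel)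
  have y1 := Q.cong h2 hn (Q.mul x v2) (Z := !![⟨72,0⟩, ⟨0,0⟩, ⟨0,0⟩, ⟨0,0⟩, ⟨0,0⟩; ⟨0,0⟩, ⟨1,0⟩, ⟨0,0⟩, ⟨0,0⟩, ⟨0,0⟩; ⟨0,0⟩, ⟨0,0⟩, ⟨1,0⟩, ⟨0,0⟩, ⟨0,0⟩; ⟨0,0⟩, ⟨0,0⟩, ⟨0,0⟩, ⟨22,39⟩, ⟨11,62⟩; ⟨0,0⟩, ⟨0,0⟩, ⟨0,0⟩, ⟨33,28⟩, ⟨51,0⟩]) (by decide +kernel)
  have y := Q.cong h2 hn (Q.mul y1 y1) (Z := !![⟨1,0⟩, ⟨0,0⟩, ⟨0,0⟩, ⟨0,0⟩, ⟨0,0⟩; ⟨0,0⟩, ⟨1,0⟩, ⟨0,0⟩, ⟨0,0⟩, ⟨0,0⟩; ⟨0,0⟩, ⟨0,0⟩, ⟨1,0⟩, ⟨0,0⟩, ⟨0,0⟩; ⟨0,0⟩, ⟨0,0⟩, ⟨0,0⟩, ⟨60,55⟩, ⟨47,64⟩; ⟨0,0⟩, ⟨0,0⟩, ⟨0,0⟩, ⟨33,46⟩, ⟨1,18⟩]) (by decide +kernel)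
  have y2 := Q.cong h2 hn (Q.mul y y) (Z := !![⟨1,0⟩, ⟨0,0⟩, ⟨0,0⟩, ⟨0,0⟩, ⟨0,0⟩; ⟨0,0⟩, ⟨1,0⟩, ⟨0,0⟩, ⟨0,0⟩, ⟨0,0⟩; ⟨0,0⟩, ⟨0,0⟩, ⟨1,0⟩, ⟨0,0⟩, ⟨0,0⟩; ⟨0,0⟩, ⟨0,0⟩, ⟨0,0⟩, ⟨9,70⟩, ⟨20,35⟩; ⟨0,0⟩, ⟨0,0⟩, ⟨0,0⟩, ⟨42,32⟩, ⟨60,3⟩]) (by decide +kernel)
  have y4 := Q.cong h2 hn (Q.mul y2 y2) (Z := !![⟨1,0⟩, ⟨0,0⟩, ⟨0,0⟩, ⟨0,0⟩, ⟨0,0⟩; ⟨0,0⟩, ⟨1,0⟩, ⟨0,0⟩, ⟨0,0⟩, ⟨0,0⟩; ⟨0,0⟩, ⟨0,0⟩, ⟨1,0⟩, ⟨0,0⟩, ⟨0,0⟩; ⟨0,0⟩, ⟨0,0⟩, ⟨0,0⟩, ⟨36,12⟩, ⟨66,6⟩; ⟨0,0⟩, ⟨0,0⟩, ⟨0,0⟩, ⟨51,18⟩, ⟨51,61⟩]) (by decide +kernel)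
  have y8 := Q.cong h2 hn (Q.mul y4 y4) (Z := !![⟨1,0⟩, ⟨0,0⟩, ⟨0,0⟩, ⟨0,0⟩, ⟨0,0⟩; ⟨0,0⟩, ⟨1,0⟩, ⟨0,0⟩, ⟨0,0⟩, ⟨0,0⟩; ⟨0,0⟩, ⟨0,0⟩, ⟨1,0⟩, ⟨0,0⟩, ⟨0,0⟩; ⟨0,0⟩, ⟨0,0⟩, ⟨0,0⟩, ⟨65,22⟩, ⟨48,11⟩; ⟨0,0⟩, ⟨0,0⟩, ⟨0,0⟩, ⟨57,33⟩, ⟨56,51⟩]) (by decide +kernel)
  have y9 := Q.cong h2 hn (Q.mul y8 y) (Z := !![⟨1,0⟩, ⟨0,0⟩, ⟨0,0⟩, ⟨0,0⟩, ⟨0,0⟩; ⟨0,0⟩, ⟨1,0⟩, ⟨0,0⟩, ⟨0,0⟩, ⟨0,0⟩; ⟨0,0⟩, ⟨0,0⟩, ⟨1,0⟩, ⟨0,0⟩, ⟨0,0⟩; ⟨0,0⟩, ⟨0,0⟩, ⟨0,0⟩, ⟨40,20⟩, ⟨37,10⟩; ⟨0,0⟩, ⟨0,0⟩, ⟨0,0⟩, ⟨12,30⟩, ⟨65,53⟩]) (by decide +kernel)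
  have y18 := Q.cong h2 hn (Q.mul y9 y9) (Z := !![⟨1,0⟩, ⟨0,0⟩, ⟨0,0⟩, ⟨0,0⟩, ⟨0,0⟩; ⟨0,0⟩, ⟨1,0⟩, ⟨0,0⟩, ⟨0,0⟩, ⟨0,0⟩; ⟨0,0⟩, ⟨0,0⟩, ⟨1,0⟩, ⟨0,0⟩, ⟨0,0⟩; ⟨0,0⟩, ⟨0,0⟩, ⟨0,0⟩, ⟨38,56⟩, ⟨16,28⟩; ⟨0,0⟩, ⟨0,0⟩, ⟨0,0⟩, ⟨19,11⟩, ⟨35,17⟩]) (by decide +kernel)
  have r := Q.cong h2 hn (Q.mul y18 y18) (Z := RZ) (by decide +kernel)
  exact r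

theorem gamma' {p : ℕ} (h : FG F p) (hg : g * g = -11) {G : Subgroup (GL (Fin 5) F)}
    {U Ff X : GL (Fin 5) F} (UG : U ∈ G) (FG : Ff ∈ G) (XG : X ∈ G) (hU : Rp hg U 4 u16) (hF : Rp hg Ff 0 fZ)
    (hX : Rp hg X 0 xZ) : ∃ K ∈ G, Rp hg K 0 RZ := by
  have h2 := h.two
  have hu : Q hg G 4 u16 := ⟨_, UG, hU⟩
  have hf : Q hg G 0 fZ := ⟨_, FG, hF⟩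
  have hx : Q hg G 0 xZ := ⟨_, XG, hX⟩
  have hU := Q.inv h2 (l := 4) (Y := U16) hu (by decide +kernel)
  have ht := q_t h2 hu hU hf
  have hT := Q.inv h2 (l := 3) (Y := T8) ht (by decide +kernel)
  have hz := q_z h2 hu hU hf
  by_cases h3 : (3 : F) = 0
  · haveI : CharP F 3 := (CharP.charP_iff_prime_eq_zero Nat.prime_three).2 (by exact_mod_cast h3)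
    rcases mul_self_eq_one_iff.1 (show g * g = 1 by linear_combination hg - 4 * h3) with e | e
    · exact s3a h2 (ZMod.castHom (dvd_refl 3) F) (by rw [e, map_one]) hu hU hf hx
    · exact s3b h2 (ZMod.castHom (dvd_refl 3) F) (by rw [e, map_neg, map_one]) hu hU hf hx
  by_cases h31 : (31 : F) = 0
  · haveI : CharP F 31 := (CharP.charP_iff_prime_eq_zero (by norm_num)).2 (by exact_mod_cast h31)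
    rcases mul_self_eq_mul_self_iff.1 (show g * g = 12 * 12 by linear_combination hg - 5 * h31) with e | e
    · exact s31a h2 (ZMod.castHom (dvd_refl 31) F) (by rw [e, map_ofNat]) ht hT hz hx
    · exact s31b h2 (ZMod.castHom (dvd_refl 31) F) (by rw [e, map_neg, map_ofNat]) ht hT hz hx
  by_cases h13 : (13 : F) = 0
  · exact s13 h2 (by exact_mod_cast h13) ht hT hz hx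
  by_cases h73 : (73 : F) = 0
  · exact s73 h2 (by exact_mod_cast h73) ht hT hz hx
  exact gen' h h3 h31 h13 h73 ht hT hz hx

end Cfsg.Agent.H9.C11
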